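-- Team project OTSM (S5987, helper31), packages [PCNTM] and [DVDM] (helper53).
import Mathlib
import Cfsg.Agent.Lib.Helper31.OTSM.Defs
import Cfsg.Agent.Lib.Helper53.OTS.CountPM

set_option autoImplicit false

namespace Cfsg.Agent.Lib.Helper53.OTSM

open Module Cfsg.Agent.Lib.Helper64.OParM

universe u

/-- The minus-type count on `MI k` (`d = k + 1`). -/
theorem card_ts_minusMI {F : Type u} [Field F] [Fintype F] (k m : ℕ) (hm : m ≤ k + 1) (a b : F)
    (hab : Aniso a b) :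
    Nat.card {W : Submodule F (MI k → F) //
        finrank F W = m ∧ Cfsg.Geo.IsTotallySingularQuad (Cfsg.quadFormMinus k F a b) W} *
      Cfsg.Agent.Lib.Helper40.Elusive.Q (Fintype.card F) m m =
    ∏ j ∈ Finset.range m,
      ((Fintype.card F ^ (k + 1 - j) + 1) * (Fintype.card F ^ (k - j) - 1)) := by
  have h1 := Cfsg.Agent.Lib.Helper53.OTS.card_ts_minus' (F := F) (k + 1) m (by omega) hm a b hab
  have h2 : ∀ j, k + 1 - j - 1 = k - j := fun j => by omega
  simp only [h2] at h1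
  exact h1

/-- **[DVDM]** -/
theorem pkgDvdM : Cfsg.Agent.Lib.Helper31.OTSM.PkgDvdM.{u} := by
  intro F _ _ k m r a b hab hr hmk hdvd
  have h1 := card_ts_minusMI (F := F) k m (by omega) a b hab
  have h2 : r ∣ ∏ j ∈ Finset.range m,
      ((Fintype.card F ^ (k + 1 - j) + 1) * (Fintype.card F ^ (k - j) - 1)) := by
    rw [← h1]
    exact Dvd.dvd.mul_right hdvd _
  obtain ⟨j, hj, hj2⟩ := (Prime.dvd_finsetProd_iff hr.prime _).1 h2
  exact ⟨j, Finset.mem_range.1 hj, (hr.dvd_mul).1 hj2⟩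

/-- **[PCNTM]** -/
theorem pkgPCntM : Cfsg.Agent.Lib.Helper31.OTSM.PkgPCntM.{u} := by
  intro F _ _ p _ _ k m a b hab hmk hdvd
  have hp : p.Prime := Fact.out
  have hq : 2 ≤ Fintype.card F := Fintype.one_lt_card
  obtain ⟨j, hj, hj2⟩ := pkgDvdM F k m p a b hab hp hmk hdvd
  have hpq : p ∣ Fintype.card F := Cfsg.Agent.Lib.Helper40.Elusive.char_dvd_card p
  rcases hj2 with hj2 | hj2
  · have h2 : p ∣ Fintype.card F ^ (k + 1 - j) := dvd_pow hpq (by omega)
    have h4 : p ∣ 1 := by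
      have := Nat.dvd_sub hj2 h2
      rwa [Nat.add_sub_cancel_left] at this
    exact hp.one_lt.ne' (Nat.dvd_one.1 h4)
  · have h2 : p ∣ Fintype.card F ^ (k - j) := dvd_pow hpq (by omega)
    have h3 : 1 ≤ Fintype.card F ^ (k - j) := Nat.one_le_pow _ _ (by omega)
    have h4 : p ∣ 1 := by
      have := Nat.dvd_sub h2 hj2
      rwa [Nat.sub_sub_self h3] at this
    exact hp.one_lt.ne' (Nat.dvd_one.1 h4)

end Cfsg.Agent.Lib.Helper53.OTSM
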